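import Groth.Prelude.Def_TopMod
import Groth.Prelude.Def_LinTop
import Mathlib

/-!
# Formally left invertible maps of complete modules
-/

set_option autoImplicit false
universe u v w

namespace Groth.Agent.FormalLeftInv

variable {A : Type u} [CommRing A]

lemma tors_smul {Q : Type*} [AddCommGroup Q] [Module A Q] {J : Ideal A}
    (h : Module.IsTorsionBySet A Q J) {a : A} (ha : a ∈ J) (x : Q) : a • x = 0 :=
  h (x := x) (a := ⟨a, ha⟩)

/-- Lifting against `P ⧸ J P` projective over `A ⧸ J`. -/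
theorem exists_lift {P : Type*} [AddCommGroup P] [Module A P] (J : Ideal A)
    [Module.Projective (A ⧸ J) (P ⧸ (J • ⊤ : Submodule A P))]
    {Q : Type*} [AddCommGroup Q] [Module A Q] {R : Type*} [AddCommGroup R] [Module A R]
    (hQ : Module.IsTorsionBySet A Q J) (f : Q →ₗ[A] R) (hf : Function.Surjective f)
    (v : P →ₗ[A] R) : ∃ w : P →ₗ[A] Q, ∀ y, f (w y) = v y := by
  have hR : Module.IsTorsionBySet A R J := fun r a => by
    obtain ⟨q, rfl⟩ := hf r
    rw [← map_smul, tors_smul hQ a.2, map_zero]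
  letI := hQ.module
  letI := hR.module
  haveI : IsScalarTower A (A ⧸ J) Q := hQ.isScalarTower
  haveI : IsScalarTower A (A ⧸ J) R := hR.isScalarTower
  have hv : (J • ⊤ : Submodule A P) ≤ LinearMap.ker v := Submodule.smul_le.2 fun a ha y _ => by
    rw [LinearMap.mem_ker, map_smul]
    exact tors_smul hR ha _
  have hs : Function.Surjective (algebraMap A (A ⧸ J)) := Ideal.Quotient.mk_surjective
  obtain ⟨w, hw⟩ := Module.projective_lifting_property
    (LinearMap.extendScalarsOfSurjectiveEquiv hs f)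
    (LinearMap.extendScalarsOfSurjectiveEquiv hs (Submodule.liftQ _ v hv)) hf
  exact ⟨(w.restrictScalars A).comp (Submodule.mkQ _), fun y =>
    LinearMap.congr_fun hw (Submodule.Quotient.mk y)⟩

lemma isTorsionBySet_quotient (J : Ideal A) (M : Type*) [AddCommGroup M] [Module A M] :
    Module.IsTorsionBySet A (M ⧸ (J • ⊤ : Submodule A M)) J := fun x a => by
  obtain ⟨x, rfl⟩ := Submodule.Quotient.mk_surjective _ x
  exact (Submodule.Quotient.mk_eq_zero _).2 (Submodule.smul_mem_smul a.2 Submodule.mem_top)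

variable {M : Type v} {N : Type w} [AddCommGroup M] [Module A M] [AddCommGroup N] [Module A N]

/-- Left invertibility modulo `J` lifts from left invertibility modulo `𝔏` when a power of `𝔏` lies
in `J`. -/
theorem exists_leftInverse_mod (J L : Ideal A) (m : ℕ) (hm : L ^ m ≤ J) (u : M →ₗ[A] N)
    [Module.Projective (A ⧸ J) (N ⧸ (J • ⊤ : Submodule A N))]
    (w₀ : N →ₗ[A] M ⧸ (L • ⊤ : Submodule A M))
    (hw₀ : ∀ x, w₀ (u x) = Submodule.Quotient.mk x) :
    ∃ g : N →ₗ[A] M ⧸ (J • ⊤ : Submodule A M), ∀ x, g (u x) = Submodule.Quotient.mk x := by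
  let f := Submodule.factor
    (Submodule.smul_mono_left (le_sup_left : J ≤ J ⊔ L) : (J • ⊤ : Submodule A M) ≤ (J ⊔ L) • ⊤)
  obtain ⟨g, hg⟩ := exists_lift J (isTorsionBySet_quotient J M) f (Submodule.factor_surjective _)
    ((Submodule.factor (Submodule.smul_mono_left (le_sup_right : L ≤ J ⊔ L) :
      (L • ⊤ : Submodule A M) ≤ (J ⊔ L) • ⊤)).comp w₀)
  have hgu : (J • ⊤ : Submodule A M) ≤ LinearMap.ker (g.comp u) :=
    Submodule.smul_le.2 fun a ha x _ => by
      rw [LinearMap.mem_ker, map_smul]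
      exact tors_smul (isTorsionBySet_quotient J M) ha _
  let h : Module.End A (M ⧸ (J • ⊤ : Submodule A M)) := Submodule.liftQ _ (g.comp u) hgu
  have hJ0 : J • (⊤ : Submodule A (M ⧸ (J • ⊤ : Submodule A M))) = ⊥ := by
    rw [eq_bot_iff, Submodule.smul_le]
    exact fun a ha x _ => (Submodule.mem_bot A).2 (tors_smul (isTorsionBySet_quotient J M) ha x)
  have hd : LinearMap.range (h - 1) ≤ L • ⊤ := by
    rintro _ ⟨x, rfl⟩
    obtain ⟨x, rfl⟩ := Submodule.Quotient.mk_surjective _ x
    have h0 : f (g (u x) - Submodule.Quotient.mk x) = 0 := by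
      rw [map_sub, hg, LinearMap.comp_apply, hw₀]
      exact sub_self _
    have h1 : LinearMap.ker f ≤ L • ⊤ := by
      intro y hy
      obtain ⟨y, rfl⟩ := Submodule.Quotient.mk_surjective _ y
      have hy' : y ∈ (J ⊔ L) • (⊤ : Submodule A M) := (Submodule.Quotient.mk_eq_zero _).1 hy
      have h2 := Submodule.mem_map_of_mem (f := (J • ⊤ : Submodule A M).mkQ) hy'
      rw [Submodule.map_smul'', Submodule.map_top, Submodule.range_mkQ, Submodule.sup_smul, hJ0,
        bot_sup_eq] at h2
      exact h2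
    exact h1 h0
  have hpow : ∀ k : ℕ, LinearMap.range ((h - 1) ^ k) ≤ L ^ k • ⊤ := by
    intro k
    induction k with
    | zero => rw [pow_zero, pow_zero, Ideal.one_eq_top, Submodule.top_smul]; exact le_top
    | succ k ih =>
      rw [pow_succ' (h - 1), Module.End.mul_eq_comp, LinearMap.range_comp]
      refine (Submodule.map_mono ih).trans ?_
      rw [Submodule.map_smul'', pow_succ, Submodule.mul_smul]
      exact Submodule.smul_mono le_rfl (LinearMap.map_le_range.trans hd)
  have hnil : IsNilpotent (h - 1) := ⟨m, LinearMap.range_eq_bot.1 (le_bot_iff.1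
    ((hpow m).trans ((Submodule.smul_mono_left hm).trans hJ0.le)))⟩
  obtain ⟨e, he⟩ : IsUnit h := by simpa using hnil.isUnit_add_one
  refine ⟨(↑e⁻¹ : Module.End A _).comp g, fun x => ?_⟩
  change (↑e⁻¹ : Module.End A _) (h (Submodule.Quotient.mk x)) = _
  rw [← he, ← Module.End.mul_apply, Units.inv_mul, Module.End.one_apply]

/-- The cokernel modulo `J` is projective when `u` is left invertible modulo `J`. -/
theorem projective_coker (J : Ideal A) (u : M →ₗ[A] N)
    [Module.Projective (A ⧸ J) (N ⧸ (J • ⊤ : Submodule A N))]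
    (g : N →ₗ[A] M ⧸ (J • ⊤ : Submodule A M)) (hg : ∀ x, g (u x) = Submodule.Quotient.mk x) :
    Module.Projective (A ⧸ J)
      ((N ⧸ LinearMap.range u) ⧸ (J • (⊤ : Submodule A (N ⧸ LinearMap.range u)))) := by
  let ub : M ⧸ (J • ⊤ : Submodule A M) →ₗ[A] N ⧸ (J • ⊤ : Submodule A N) :=
    Submodule.liftQ _ ((Submodule.mkQ _).comp u) (Submodule.smul_le.2 fun a ha x _ => by
      rw [LinearMap.mem_ker, map_smul]
      exact tors_smul (isTorsionBySet_quotient J N) ha _)
  let s₀ : N →ₗ[A] N ⧸ (J • ⊤ : Submodule A N) := Submodule.mkQ _ - ub.comp g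
  let s₁ : N ⧸ LinearMap.range u →ₗ[A] N ⧸ (J • ⊤ : Submodule A N) :=
    Submodule.liftQ _ s₀ (by
      rintro _ ⟨x, rfl⟩
      rw [LinearMap.mem_ker, LinearMap.sub_apply, LinearMap.comp_apply, hg]
      exact sub_self _)
  let s : (N ⧸ LinearMap.range u) ⧸ (J • (⊤ : Submodule A (N ⧸ LinearMap.range u))) →ₗ[A]
      N ⧸ (J • ⊤ : Submodule A N) :=
    Submodule.liftQ _ s₁ (Submodule.smul_le.2 fun a ha x _ => by
      rw [LinearMap.mem_ker, map_smul]
      exact tors_smul (isTorsionBySet_quotient J N) ha _)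
  let q₀ : N →ₗ[A] (N ⧸ LinearMap.range u) ⧸ (J • (⊤ : Submodule A (N ⧸ LinearMap.range u))) :=
    (Submodule.mkQ _).comp (Submodule.mkQ _)
  let q : N ⧸ (J • ⊤ : Submodule A N) →ₗ[A]
      (N ⧸ LinearMap.range u) ⧸ (J • (⊤ : Submodule A (N ⧸ LinearMap.range u))) :=
    Submodule.liftQ _ q₀ (Submodule.smul_le.2 fun a ha x _ => by
      rw [LinearMap.mem_ker, map_smul]
      exact tors_smul (isTorsionBySet_quotient J _) ha _)
  have hqu : ∀ z, q (ub z) = 0 := fun z => by
    obtain ⟨x, rfl⟩ := Submodule.Quotient.mk_surjective _ z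
    change Submodule.Quotient.mk (Submodule.Quotient.mk (u x)) = (0 : _ ⧸ _)
    rw [(Submodule.Quotient.mk_eq_zero (LinearMap.range u)).2 (LinearMap.mem_range_self u x)]
    rfl
  have hqs : q.comp s = LinearMap.id := by
    refine LinearMap.ext fun z => ?_
    obtain ⟨z, rfl⟩ := Submodule.Quotient.mk_surjective _ z
    obtain ⟨y, rfl⟩ := Submodule.Quotient.mk_surjective _ z
    change q (Submodule.Quotient.mk y - ub (g y)) = _
    rw [map_sub, hqu, sub_zero]
    rfl
  have hs : Function.Surjective (algebraMap A (A ⧸ J)) := Ideal.Quotient.mk_surjective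
  exact Module.Projective.of_split (LinearMap.extendScalarsOfSurjectiveEquiv hs s)
    (LinearMap.extendScalarsOfSurjectiveEquiv hs q)
    (LinearMap.ext fun z => LinearMap.congr_fun hqs z)

/-- From left inverses modulo every `𝔍 n` to a left inverse. -/
theorem exists_leftInverse [TopologicalSpace A] [UniformSpace M] [IsUniformAddGroup M]
    [CompleteSpace M] [T2Space M] (𝔍 : ℕ → Ideal A) (hopen : ∀ n, IsOpen (𝔍 n : Set A))
    (hanti : Antitone 𝔍)
    (hbasis : (nhds (0 : A)).HasBasis (fun _ : ℕ => True) (fun n => (𝔍 n : Set A)))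
    (hM : TopMod.IsDeduced A M) (u : M →ₗ[A] N)
    (hcoker : ∀ n, Module.Projective (A ⧸ 𝔍 n)
      ((N ⧸ LinearMap.range u) ⧸ (𝔍 n • (⊤ : Submodule A (N ⧸ LinearMap.range u)))))
    (hloc : ∀ n, ∃ g : N →ₗ[A] M ⧸ (𝔍 n • ⊤ : Submodule A M),
      ∀ x, g (u x) = Submodule.Quotient.mk x) :
    ∃ w : N →ₗ[A] M, ∀ x, w (u x) = x := by
  let V : ℕ → Submodule A M := fun n => 𝔍 n • ⊤
  have hV : (nhds (0 : M)).HasBasis (fun _ : ℕ => True) (fun n => (V n : Set M)) :=
    hM.2.to_hasBasis
      (fun J hJ => by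
        obtain ⟨n, -, hn⟩ := hbasis.mem_iff.1 (hJ.mem_nhds J.zero_mem)
        exact ⟨n, trivial, Submodule.smul_mono_left (fun a ha => hn ha)⟩)
      (fun n _ => ⟨𝔍 n, hopen n, le_rfl⟩)
  have hVmono : ∀ {i j}, i ≤ j → V j ≤ V i := fun h => Submodule.smul_mono_left (hanti h)
  let tr : ∀ n, (M ⧸ V (n + 1)) →ₗ[A] M ⧸ V n := fun n => Submodule.factor (hVmono n.le_succ)
  let T : ℕ → Type (max v w) := fun n =>
    {g : N →ₗ[A] M ⧸ V n // ∀ x, g (u x) = Submodule.Quotient.mk x}
  have step : ∀ n, ∀ g : T n, ∃ g' : T (n + 1), ∀ y, tr n (g'.1 y) = g.1 y := by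
    intro n g
    obtain ⟨g₁, hg₁⟩ := hloc (n + 1)
    have := hcoker (n + 1)
    let d : N ⧸ LinearMap.range u →ₗ[A] M ⧸ V n :=
      Submodule.liftQ _ ((tr n).comp g₁ - g.1) (by
        rintro _ ⟨x, rfl⟩
        rw [LinearMap.mem_ker, LinearMap.sub_apply, LinearMap.comp_apply, hg₁, g.2]
        exact sub_self _)
    obtain ⟨e, he⟩ := exists_lift (𝔍 (n + 1)) (isTorsionBySet_quotient _ M) (tr n)
      (Submodule.factor_surjective _) d
    refine ⟨⟨g₁ - e.comp (Submodule.mkQ _), fun x => ?_⟩, fun y => ?_⟩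
    · rw [LinearMap.sub_apply, LinearMap.comp_apply, Submodule.mkQ_apply,
        (Submodule.Quotient.mk_eq_zero (LinearMap.range u)).2 (LinearMap.mem_range_self u x), map_zero, sub_zero, hg₁]
    · change tr n (g₁ y - e (Submodule.Quotient.mk y)) = g.1 y
      rw [map_sub, he]
      exact sub_sub_cancel _ _
  choose next hnext using step
  let G : ∀ n, T n := fun n =>
    Nat.rec ⟨(hloc 0).choose, (hloc 0).choose_spec⟩ (fun k g => next k g) n
  have hG : ∀ n y, tr n ((G (n + 1)).1 y) = (G n).1 y := fun n y => hnext n (G n) y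
  have hlim : ∀ y, ∃ l : M, ∀ n, Submodule.Quotient.mk l = (G n).1 y := by
    intro y
    choose m hm using fun n => Submodule.Quotient.mk_surjective (V n) ((G n).1 y)
    have hdiff : ∀ n k, m (n + k) - m n ∈ V n := by
      intro n k
      induction k with
      | zero => simp
      | succ k ih =>
        have h1 : m (n + k + 1) - m (n + k) ∈ V (n + k) := by
          rw [← Submodule.Quotient.eq, hm (n + k), ← hG (n + k) y, ← hm (n + k + 1)]
          rfl
        have := add_mem (hVmono (Nat.le_add_right n k) h1) ih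
        rw [sub_add_sub_cancel] at this
        exact this
    have hdiff' : ∀ n i, n ≤ i → m i - m n ∈ V n := fun n i hi => by
      obtain ⟨k, rfl⟩ := Nat.exists_eq_add_of_le hi
      exact hdiff n k
    have hcauchy : CauchySeq m := by
      rw [hV.uniformity_of_nhds_zero.cauchySeq_iff]
      intro n _
      refine ⟨n, fun i hi j hj => ?_⟩
      have := sub_mem (hdiff' n j hj) (hdiff' n i hi)
      rw [sub_sub_sub_cancel_right] at this
      exact this
    obtain ⟨l, hl⟩ := cauchySeq_tendsto_of_complete hcauchy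
    refine ⟨l, fun n => ?_⟩
    rw [← hm n, Submodule.Quotient.eq]
    have hclosed : IsClosed (V n : Set M) :=
      AddSubgroup.isClosed_of_isOpen (V n).toAddSubgroup
        ((V n).toAddSubgroup.isOpen_of_mem_nhds (g := 0) (hV.mem_of_mem trivial))
    exact hclosed.mem_of_tendsto (hl.sub tendsto_const_nhds)
      (Filter.eventually_atTop.2 ⟨n, fun i hi => hdiff' n i hi⟩)
  choose L hL using hlim
  have huniq : ∀ a b : M, (∀ n, Submodule.Quotient.mk (p := V n) a = Submodule.Quotient.mk b) →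
      a = b := by
    intro a b h
    by_contra hab
    obtain ⟨n, -, hn⟩ := hV.mem_iff.1 (isOpen_compl_singleton.mem_nhds
      (fun h0 : (0 : M) = a - b => hab (sub_eq_zero.1 h0.symm)))
    exact hn ((Submodule.Quotient.eq _).1 (h n)) rfl
  exact ⟨{ toFun := L
           map_add' := fun y y' => huniq _ _ fun n => by
             rw [hL, map_add, Submodule.Quotient.mk_add, hL, hL]
           map_smul' := fun a y => huniq _ _ fun n => by
             rw [hL, map_smul, RingHom.id_apply, Submodule.Quotient.mk_smul, hL] },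
    fun x => huniq _ _ fun n => (hL (u x) n).trans ((G n).2 x)⟩

section Top

variable [TopologicalSpace A]

/-- A linear map between deduced modules is continuous. -/
theorem continuous_of_isDeduced [TopologicalSpace M] [TopologicalSpace N]
    (hM : TopMod.IsDeduced A M) (hN : TopMod.IsDeduced A N) (f : N →ₗ[A] M) : Continuous f := by
  have := hM.1
  have := hN.1
  refine continuous_of_continuousAt_zero f.toAddMonoidHom ?_
  change Filter.Tendsto f (nhds 0) (nhds (f 0))
  rw [map_zero]
  refine (hN.2.tendsto_iff hM.2).2 fun J hJ => ⟨J, hJ, fun y hy => ?_⟩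
  have h := Submodule.mem_map_of_mem (f := f) hy
  rw [Submodule.map_smul''] at h
  exact Submodule.smul_mono le_rfl le_top h

theorem isOpen_smul_top [TopologicalSpace M] (hM : TopMod.IsDeduced A M) (J : Ideal A)
    (hJ : IsOpen (J : Set A)) : IsOpen ((J • ⊤ : Submodule A M) : Set M) := by
  have := hM.1
  exact (J • ⊤ : Submodule A M).toAddSubgroup.isOpen_of_mem_nhds (g := 0) (hM.2.mem_of_mem hJ)

theorem exists_leftInverse_mod_of_formally [TopologicalSpace M] [TopologicalSpace N]
    (hM : TopMod.IsDeduced A M) (u : M →L[A] N) (h : TopMod.IsFormallyLeftInvertible u)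
    (J : Ideal A) (hJ : IsOpen (J : Set A)) :
    ∃ g : N →ₗ[A] M ⧸ (J • ⊤ : Submodule A M), ∀ x, g (u x) = Submodule.Quotient.mk x := by
  have := hM.1
  letI tQ : TopologicalSpace (M ⧸ (J • ⊤ : Submodule A M)) := ⊥
  haveI : @DiscreteTopology (M ⧸ (J • ⊤ : Submodule A M)) tQ := @DiscreteTopology.mk _ tQ rfl
  have hc : @Continuous _ _ _ tQ (Submodule.mkQ (J • ⊤ : Submodule A M)) := by
    refine continuous_discrete_rng.2 fun q => ?_
    obtain ⟨x, rfl⟩ := Submodule.Quotient.mk_surjective _ q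
    have : (Submodule.mkQ (J • ⊤ : Submodule A M)) ⁻¹' {Submodule.Quotient.mk x} =
        (fun y => y - x) ⁻¹' ((J • ⊤ : Submodule A M) : Set M) := by
      ext y
      exact Submodule.Quotient.eq _
    rw [this]
    exact (isOpen_smul_top hM J hJ).preimage (continuous_id.sub continuous_const)
  obtain ⟨g, hg⟩ := h _ ⟨Submodule.mkQ _, hc⟩
  exact ⟨g.toLinearMap, hg⟩

theorem formally_of_leftInverse [TopologicalSpace M] [TopologicalSpace N]
    (hM : TopMod.IsDeduced A M) (hN : TopMod.IsDeduced A N) (u : M →L[A] N)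
    (w : N →ₗ[A] M) (hw : ∀ x, w (u x) = x) : TopMod.IsFormallyLeftInvertible u := by
  intro E _ _ _ _ f
  exact ⟨f.comp ⟨w, continuous_of_isDeduced hM hN w⟩, fun x => congrArg f (hw x)⟩

end Top

end Groth.Agent.FormalLeftInv
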